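import Groth.Agent.Lib.PerfHom.Examples
import Groth.Agent.Lib.RelPC.Flat
import Groth.Agent.Lib.RelPC.BaseChange
import Groth.Agent.Lib.RelPC.MapPoly
import Groth.Agent.Lib.DCxRing.Descent
import Mathlib.RingTheory.Localization.BaseChange

/-!
# Relative pseudo-coherence is local on the source
-/

set_option autoImplicit false
set_option linter.style.haveILetI false
set_option linter.unusedSectionVars false
universe u

open CategoryTheory CategoryTheory.Limits TensorProduct GrothLib.DR

attribute [local instance] HasDerivedCategory.standard

namespace GrothLib.RelPCLoc3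

variable {P A : Type u} [CommRing P] [CommRing A]

theorem isPush_away (φ : P →+* A) (g : P) :
    RelPC.IsPush φ (algebraMap P (Localization.Away g)) (algebraMap A (Localization.Away (φ g)))
      (Localization.awayMap φ g) := by
  unfold RelPC.IsPush
  let := φ.toAlgebra
  let : Algebra (Localization.Away g) (Localization.Away (φ g)) := (Localization.awayMap φ g).toAlgebra
  have : IsScalarTower P (Localization.Away g) (Localization.Away (φ g)) :=
    IsScalarTower.of_algebraMap_eq fun x => by
      show algebraMap A (Localization.Away (φ g)) (φ x) = IsLocalization.Away.map _ _ φ g (algebraMap P _ x)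
      simp [IsLocalization.Away.map]
  have : IsLocalization (Algebra.algebraMapSubmonoid A (Submonoid.powers g)) (Localization.Away (φ g)) := by
    rw [Algebra.algebraMapSubmonoid_powers]
    exact inferInstanceAs (IsLocalization.Away (φ g) (Localization.Away (φ g)))
  have hp : Algebra.IsPushout P A (Localization.Away g) (Localization.Away (φ g)) :=
    Algebra.isPushout_of_isLocalization (Submonoid.powers g) _ _ _
  have h1 : (algebraMap P (Localization.Away g)).toAlgebra = (inferInstance : Algebra P (Localization.Away g)) :=
    Algebra.algebra_ext _ _ fun _ => rfl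
  have h2 : (algebraMap A (Localization.Away (φ g))).toAlgebra =
      (inferInstance : Algebra A (Localization.Away (φ g))) :=
    Algebra.algebra_ext _ _ fun _ => rfl
  rw [h1, h2]
  exact ⟨(Algebra.IsPushout.equiv P A (Localization.Away g) (Localization.Away (φ g))).toLinearEquiv,
    fun a q => Algebra.IsPushout.equiv_tmul P A (Localization.Away g) (Localization.Away (φ g)) a q⟩

/-- Localisation commutes with restriction along a presentation. -/
theorem nonempty_bc_restrict (φ : P →+* A) (g : P) (K : DRing.Cx A) :
    Nonempty (DRing.toD ((DR.bc (algebraMap P (Localization.Away g))).obj ((DRing.restrictCx φ).obj K)) ≅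
      (DRing.restrictD (Localization.awayMap φ g)).obj
        (DRing.toD ((DR.bc (algebraMap A (Localization.Away (φ g)))).obj K))) :=
  ⟨DerivedCategory.Q.mapIso ((Functor.mapHomologicalComplexCompIso
      (RelPC.pushBaseChangeIso φ _ _ _ (isPush_away φ g)) (ComplexShape.up ℤ)).app K) ≪≫
    DerivedCategory.Q.mapIso ((Functor.mapHomologicalComplexCompIso
      (Iso.refl (ModuleCat.extendScalars.{u, u, u} (algebraMap A (Localization.Away (φ g))) ⋙
        ModuleCat.restrictScalars.{u} (Localization.awayMap φ g))) (ComplexShape.up ℤ)).symm.app K) ≪≫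
    (DR.restrictToDIso _ _).symm⟩

variable {R : Type u} [CommRing R] [Algebra R P] [Algebra R A]

theorem awayMap_surjective (φ : P →+* A) (hφ : Function.Surjective φ) (g : P) :
    Function.Surjective (Localization.awayMap φ g) := by
  refine Localization.awayMap_surjective_iff.2 fun a => ?_
  obtain ⟨p, rfl⟩ := hφ a
  exact ⟨p, 0, by simp⟩

/-- Localisation of an algebra map as an algebra map. -/
noncomputable def awayAlgHom (α : P →ₐ[R] A) (g : P) :
    Localization.Away g →ₐ[R] Localization.Away ((α : P →+* A) g) :=
  { Localization.awayMap (α : P →+* A) g with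
    commutes' := fun r => by
      show Localization.awayMap (α : P →+* A) g (algebraMap R _ r) = _
      rw [IsScalarTower.algebraMap_apply R P (Localization.Away g),
        Localization.awayMap, IsLocalization.Away.map, IsLocalization.map_eq,
        IsScalarTower.algebraMap_apply R A (Localization.Away ((α : P →+* A) g))]
      exact congrArg _ (α.commutes r) }

theorem ringPC_pres_away [Algebra.FinitePresentation R P] [Module.Flat R P] (g : P) :
    ∃ (k : ℕ) (γ : MvPolynomial (Fin k) R →ₐ[R] Localization.Away g), Function.Surjective γ ∧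
      DR.RingPseudoCoherent (γ : MvPolynomial (Fin k) R →+* Localization.Away g) := by
  haveI : Algebra.FinitePresentation P (Localization.Away g) := IsLocalization.Away.finitePresentation g
  haveI : Algebra.FinitePresentation R (Localization.Away g) :=
    Algebra.FinitePresentation.trans R P (Localization.Away g)
  haveI : Module.Flat P (Localization.Away g) := IsLocalization.flat _ (Submonoid.powers g)
  haveI : Module.Flat R (Localization.Away g) := Module.Flat.trans R P _
  obtain ⟨k, γ, hγ⟩ := RelPC.exists_pres (R := R) (A := Localization.Away g)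
  exact ⟨k, γ, hγ, RelPC.ringPC_of_relPC_self
    (PHom.relPC_of_isPseudoCoherentHom (PHom.of_flat (A := R) (B := Localization.Away g))) γ hγ⟩

/-- The pseudo-coherence of a localised piece, read over the localised polynomial ring. -/
theorem pc_piece [Algebra.FinitePresentation R P] [Module.Flat R P] (α : P →ₐ[R] A)
    (hα : Function.Surjective α) (g : P) (K : DRing.Cx A) (m : ℤ)
    (h : DerCA.IsRelPseudoCoherent R (Localization.Away ((α : P →+* A) g)) m
      (DRing.toD ((DR.bc (algebraMap A (Localization.Away ((α : P →+* A) g)))).obj K))) :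
    DRing.IsPseudoCoherent (Localization.Away g) m (DRing.toD ((DR.bc (algebraMap P
      (Localization.Away g))).obj ((DRing.restrictCx (α : P →+* A)).obj K))) := by
  have H := nonempty_bc_restrict (α : P →+* A) g K
  obtain ⟨k, γ, hγ, hγpc⟩ := ringPC_pres_away (R := R) g
  have hsur : Function.Surjective (awayAlgHom α g) := awayMap_surjective (α : P →+* A) hα g
  let β : MvPolynomial (Fin k) R →ₐ[R] Localization.Away ((α : P →+* A) g) := (awayAlgHom α g).comp γ
  have hβ : Function.Surjective β := hsur.comp hγ
  have h' := (RelPC.rel_iff β hβ _ m).1 h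
  have h2 := RelPC.pc_restrict_comp hγpc (ψ := Localization.awayMap (α : P →+* A) g)
    (χ := (β : MvPolynomial (Fin k) R →+* _))
  have hc : (β : MvPolynomial (Fin k) R →+* Localization.Away ((α : P →+* A) g)) =
      (Localization.awayMap (α : P →+* A) g).comp (γ : MvPolynomial (Fin k) R →+* Localization.Away g) :=
    RingHom.ext fun x => rfl
  have h3 := (h2 hc _ m).1 h'
  obtain ⟨e⟩ := H
  exact DerBC.isPseudoCoherent_of_iso e.symm h3

/-- The piece at an element of the kernel vanishes. -/
theorem pc_piece_ker (φ : P →+* A) (g : P) (hg : φ g = 0) (K : DRing.Cx A) (m : ℤ) :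
    DRing.IsPseudoCoherent (Localization.Away g) m
      (DRing.toD ((DR.bc (algebraMap P (Localization.Away g))).obj ((DRing.restrictCx φ).obj K))) := by
  refine DR.isPseudoCoherent_of_vanishing _ m fun i _ => ?_
  have hzero : ∀ j, IsZero (((DR.bc (algebraMap P (Localization.Away g))).obj ((DRing.restrictCx φ).obj K)).X j) := by
    intro j
    show IsZero ((ModuleCat.extendScalars.{u, u, u} (algebraMap P (Localization.Away g))).obj
      ((ModuleCat.restrictScalars.{u} φ).obj (K.X j)))
    refine IsZero.of_iso ?_ ((DR.nonempty_extendScalars_iso (A := P) (B := Localization.Away g)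
      ((ModuleCat.restrictScalars.{u} φ).obj (K.X j))).some.symm)
    refine (ModuleCat.isZero_iff_subsingleton (M := ModuleCat.of (Localization.Away g) _)).2 ?_
    have hu : IsUnit (algebraMap P (Localization.Away g) g) := IsLocalization.Away.algebraMap_isUnit g
    refine subsingleton_of_forall_eq 0 fun z => ?_
    induction z using TensorProduct.induction_on with
    | zero => rfl
    | tmul q x =>
      obtain ⟨v, hv⟩ := hu.exists_left_inv
      have h0 : g • x = 0 := by
        show φ g • (show K.X j from x) = 0
        rw [hg, zero_smul]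
      rw [show q = g • (v * q) by rw [Algebra.smul_def, ← mul_assoc, mul_comm _ v, hv, one_mul],
        TensorProduct.smul_tmul, h0, tmul_zero]
    | add a b ha hb => rw [ha, hb, add_zero]
  exact (DR.exactAt_iff _ i).1 (ShortComplex.exact_of_isZero_X₂ _ (hzero i))

/-- Relative pseudo-coherence is local. -/
theorem rel_of_away [Algebra.FiniteType R A] {r : ℕ} (f : Fin r → A) (hf : Ideal.span (Set.range f) = ⊤)
    (K : DRing.Cx A) (m : ℤ)
    (h : ∀ i, DerCA.IsRelPseudoCoherent R (Localization.Away (f i)) m
      (DRing.toD ((DR.bc (algebraMap A (Localization.Away (f i)))).obj K))) :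
    DerCA.IsRelPseudoCoherent R A m (DRing.toD K) := by
  obtain ⟨n, α, hα⟩ := RelPC.exists_pres (R := R) (A := A)
  refine (RelPC.rel_iff α hα _ m).2 ?_
  choose g hg using fun i => hα (f i)
  obtain ⟨c, hc⟩ := Ideal.mem_span_range_iff_exists_fun.1 (hf ▸ Submodule.mem_top : (1 : A) ∈ Ideal.span (Set.range f))
  choose d hd using fun i => hα (c i)
  let k : MvPolynomial (Fin n) R := 1 - ∑ i, d i * g i
  have hk : α k = 0 := by simp [k, hg, hd, hc]
  let g' : Fin (r + 1) → MvPolynomial (Fin n) R := Fin.cons k g
  have hspan : Ideal.span (Set.range g') = ⊤ := by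
    rw [Ideal.eq_top_iff_one, show (1 : MvPolynomial (Fin n) R) = k + ∑ i, d i * g i by simp [k]]
    exact Ideal.add_mem _ (Ideal.subset_span ⟨0, rfl⟩)
      (Ideal.sum_mem _ fun i _ => Ideal.mul_mem_left _ _ (Ideal.subset_span ⟨i.succ, by simp [g']⟩))
  refine DerBC.isPseudoCoherent_of_iso (DR.restrictToDIso _ K).symm
    (DR.isPseudoCoherent_of_covers (DR.covers_away g' hspan) (fun i => DR.flat_away (g' i)) _ m fun i => ?_)
  refine Fin.cases ?_ (fun j => ?_) i
  · exact pc_piece_ker _ _ hk K m
  · have e : f j = (α : MvPolynomial (Fin n) R →+* A) (g j) := (hg j).symm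
    have hg' : g' j.succ = g j := Fin.cons_succ _ _ _
    have hj : DerCA.IsRelPseudoCoherent R (Localization.Away ((α : MvPolynomial (Fin n) R →+* A) (g j))) m
        (DRing.toD ((DR.bc (algebraMap A (Localization.Away ((α : MvPolynomial (Fin n) R →+* A) (g j))))).obj K)) :=
      e ▸ h j
    rw [hg']
    exact pc_piece α hα (g j) K m hj

end GrothLib.RelPCLoc3
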